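import Cfsg.Agent.OrderType.Basic

/-!
# `SL(3, 2)`: root counts, and it is not solvable
-/

set_option autoImplicit false

namespace CfsgLib.OrderType

abbrev L27 : Type := Matrix.SpecialLinearGroup (Fin 3) (ZMod 2)

/-- The matrix whose entries are the binary digits of `i`. -/
def matrixOfCode (i : ℕ) : Matrix (Fin 3) (Fin 3) (ZMod 2) :=
  Matrix.of fun r c => ((i / 2 ^ (3 * r.val + c.val) : ℕ) : ZMod 2)

/-- The `168` elements. -/
def elsL27 : List L27 :=
  (List.range 512).filterMap fun i =>
    if h : (matrixOfCode i).det = 1 then some ⟨matrixOfCode i, h⟩ else none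

theorem elsL27_nodup : elsL27.Nodup := by decide +kernel

theorem elsL27_mem : ∀ x : L27, x ∈ elsL27 := by decide +kernel

theorem specL27 : Spec L27 [1, 22, 57, 64, 78, 49, 120, 70, 105, 112, 126, 168] :=
  Spec.of_orderCheck ⟨elsL27, elsL27_nodup, elsL27_mem⟩ (by decide +kernel)

/-- The six elementary transvections. -/
def transv (i j : Fin 3) : L27 :=
  if h : i = j then 1
  else ⟨Matrix.transvection i j 1, Matrix.det_transvection_of_ne i j h 1⟩

theorem transv_commutator :
    ∀ i j k : Fin 3, i ≠ j → i ≠ k → k ≠ j → transv i k * transv k j * (transv i k)⁻¹ * (transv k j)⁻¹ = transv i j := by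
  decide +kernel

theorem not_isSolvable_L27 : ¬ Group.IsSolvable L27 := by
  intro hsol
  obtain ⟨n, hn⟩ := (Group.isSolvable_def L27).1 hsol
  have key : ∀ m, ∀ i j : Fin 3, i ≠ j → transv i j ∈ derivedSeries L27 m := by
    intro m
    induction m with
    | zero => intro i j _; exact Subgroup.mem_top _
    | succ m ih =>
      intro i j hij
      obtain ⟨k, hik, hkj⟩ : ∃ k : Fin 3, i ≠ k ∧ k ≠ j := by revert i j; decide
      rw [derivedSeries_succ, ← transv_commutator i j k hij hik hkj, ← commutatorElement_def]
      exact Subgroup.commutator_mem_commutator (ih i k hik) (ih k j hkj)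
  have h := key n 0 1 (by decide)
  rw [hn, Subgroup.mem_bot] at h
  revert h
  decide +kernel

end CfsgLib.OrderType
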