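import Mathlib

/-!
# Counting solutions of `x ^ n = 1` in small semidirect products and in their products
-/

set_option autoImplicit false

namespace CfsgLib.OrderType

/-- An action by additive automorphisms, as plain data. -/
structure Act (H V : Type) [Group H] [AddCommGroup V] where
  op : H → V → V
  one_op : ∀ v, op 1 v = v
  mul_op : ∀ g h v, op (g * h) v = op g (op h v)
  op_add : ∀ h v w, op h (v + w) = op h v + op h w

@[ext]
structure Semi {H V : Type} [Group H] [AddCommGroup V] (A : Act H V) where
  v : V
  h : H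
deriving DecidableEq

variable {H V : Type} [Group H] [AddCommGroup V] (A : Act H V)

theorem Act.op_zero (h : H) : A.op h 0 = 0 := by
  have e := A.op_add h 0 0
  rw [add_zero] at e
  exact left_eq_add.1 e

theorem Act.op_neg (h : H) (v : V) : A.op h (-v) = -A.op h v :=
  eq_neg_of_add_eq_zero_left (by rw [← A.op_add, neg_add_cancel, A.op_zero])

instance Semi.instGroup : Group (Semi A) where
  mul x y := ⟨x.v + A.op x.h y.v, x.h * y.h⟩
  one := ⟨0, 1⟩
  inv x := ⟨-A.op x.h⁻¹ x.v, x.h⁻¹⟩
  mul_assoc x y z := by
    apply Semi.ext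
    · show x.v + A.op x.h y.v + A.op (x.h * y.h) z.v = x.v + A.op x.h (y.v + A.op y.h z.v)
      rw [A.mul_op, A.op_add, add_assoc]
    · exact mul_assoc _ _ _
  one_mul x := by
    apply Semi.ext
    · show 0 + A.op 1 x.v = x.v
      rw [A.one_op, zero_add]
    · exact one_mul _
  mul_one x := by
    apply Semi.ext
    · show x.v + A.op x.h 0 = x.v
      rw [A.op_zero, add_zero]
    · exact mul_one _
  inv_mul_cancel x := by
    apply Semi.ext
    · show -A.op x.h⁻¹ x.v + A.op x.h⁻¹ x.v = 0
      rw [neg_add_cancel]
    · exact inv_mul_cancel x.h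

instance Semi.instFintype [Fintype H] [Fintype V] : Fintype (Semi A) :=
  Fintype.ofEquiv (V × H) ⟨fun p => ⟨p.1, p.2⟩, fun x => (x.v, x.h), fun _ => rfl, fun _ => rfl⟩

instance Semi.instSolvable [Group.IsSolvable H] : Group.IsSolvable (Semi A) := by
  let f : Semi A →* H := { toFun := Semi.h, map_one' := rfl, map_mul' := fun _ _ => rfl }
  let g : Multiplicative V →* Semi A :=
    { toFun := fun v => ⟨v.toAdd, 1⟩
      map_one' := rfl
      map_mul' := fun a b => by
        apply Semi.ext
        · show a.toAdd + b.toAdd = a.toAdd + A.op 1 b.toAdd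
          rw [A.one_op]
        · exact (one_mul (1 : H)).symm }
  refine Group.isSolvable_of_ker_le_range g f fun x hx => ?_
  exact ⟨Multiplicative.ofAdd x.v, Semi.ext rfl (Eq.symm hx)⟩

/-- The action of a cyclic group by the iterates of an additive map `u` with `u^[m] = id`. -/
def cyclicAct {V : Type} [AddCommGroup V] (m : ℕ) [NeZero m] (u : V → V)
    (hu : ∀ v, u^[m] v = v) (hadd : ∀ v w, u (v + w) = u v + u w) :
    Act (Multiplicative (ZMod m)) V where
  op h v := u^[h.toAdd.val] v
  one_op v := by simp
  mul_op g h v := by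
    rw [toAdd_mul, ZMod.val_add, ← Function.iterate_add_apply,
      (show Function.IsPeriodicPt u m v from hu v).iterate_mod_apply]
  op_add h v w := by
    induction h.toAdd.val generalizing v w with
    | zero => rfl
    | succ n ih => rw [Function.iterate_succ_apply, hadd, ih]; rfl

/-- The action of `ℤ/b` on `ℤ/a` by multiplication with powers of `r`. -/
def metaAct (a b r : ℕ) [NeZero b] (hr : (r : ZMod a) ^ b = 1) :
    Act (Multiplicative (ZMod b)) (ZMod a) where
  op h v := (r : ZMod a) ^ h.toAdd.val * v
  one_op v := by simp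
  mul_op g h v := by
    rw [toAdd_mul, ZMod.val_add, ← pow_eq_pow_mod _ hr, pow_add, mul_assoc]
  op_add h v w := mul_add _ v w

/-- The metacyclic group `a : b`. -/
abbrev Meta (a b r : ℕ) [NeZero b] (hr : (r : ZMod a) ^ b = 1) : Type := Semi (metaAct a b r hr)

theorem iterate_conj {V : Type} (M N : V → V) (r : ℕ) (hNM : ∀ v, N (M v) = M^[r] (N v))
    (j k : ℕ) (v : V) : N^[j] (M^[k] v) = M^[r ^ j * k] (N^[j] v) := by
  have h1 : ∀ (k : ℕ) (v : V), N (M^[k] v) = M^[r * k] (N v) := by
    intro k
    induction k with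
    | zero => simp
    | succ k ih =>
      intro v
      rw [Function.iterate_succ_apply', hNM, ih, ← Function.iterate_add_apply,
        Nat.mul_succ, Nat.add_comm (r * k) r]
  induction j with
  | zero => simp
  | succ j ih =>
    rw [Function.iterate_succ_apply', ih, h1, Function.iterate_succ_apply', pow_succ', mul_assoc]

/-- An action of the metacyclic group given by two additive maps. -/
def pairAct {V : Type} [AddCommGroup V] (a b r : ℕ) [NeZero a] [NeZero b]
    (hr : (r : ZMod a) ^ b = 1) (M N : V → V) (hM : ∀ v, M^[a] v = v) (hN : ∀ v, N^[b] v = v)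
    (hNM : ∀ v, N (M v) = M^[r] (N v)) (hMadd : ∀ v w, M (v + w) = M v + M w)
    (hNadd : ∀ v w, N (v + w) = N v + N w) : Act (Meta a b r hr) V where
  op x v := M^[x.v.val] (N^[x.h.toAdd.val] v)
  one_op v := by
    show M^[(0 : ZMod a).val] (N^[(0 : ZMod b).val] v) = v
    simp
  mul_op g h v := by
    show M^[(g.v + (r : ZMod a) ^ g.h.toAdd.val * h.v).val] (N^[(g.h.toAdd + h.h.toAdd).val] v) = _
    rw [iterate_conj M N r hNM, ← Function.iterate_add_apply, ← Function.iterate_add_apply,
      ZMod.val_add g.h.toAdd, (show Function.IsPeriodicPt N b v from hN v).iterate_mod_apply,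
      ← (show Function.IsPeriodicPt M a _ from hM _).iterate_mod_apply
        (g.v.val + r ^ g.h.toAdd.val * h.v.val)]
    congr 1
    rw [← ZMod.val_natCast a, Nat.cast_add, Nat.cast_mul, Nat.cast_pow, ZMod.natCast_zmod_val,
      ZMod.natCast_zmod_val]
  op_add h v w := by
    have it : ∀ (u : V → V), (∀ v w, u (v + w) = u v + u w) → ∀ (n : ℕ) (v w : V),
        u^[n] (v + w) = u^[n] v + u^[n] w := by
      intro u hu n
      induction n with
      | zero => intro v w; rfl
      | succ n ih => intro v w; rw [Function.iterate_succ_apply, hu, ih]; rfl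
    rw [it N hNadd, it M hMadd]

/-- A list of all elements, without repetition. -/
structure Enum (A : Type) where
  els : List A
  nodup : els.Nodup
  mem : ∀ x, x ∈ els

def Enum.zmod (n : ℕ) [NeZero n] : Enum (ZMod n) where
  els := (List.finRange n).map (ZMod.finEquiv n)
  nodup := (List.nodup_finRange n).map (ZMod.finEquiv n).injective
  mem x := List.mem_map.2 ⟨(ZMod.finEquiv n).symm x, List.mem_finRange _, by simp⟩

def Enum.prod {A B : Type} (a : Enum A) (b : Enum B) : Enum (A × B) where
  els := a.els ×ˢ b.els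
  nodup := a.nodup.product b.nodup
  mem x := List.mem_product.2 ⟨a.mem _, b.mem _⟩

def Enum.mult {A : Type} (a : Enum A) : Enum (Multiplicative A) where
  els := a.els.map Multiplicative.ofAdd
  nodup := a.nodup.map Multiplicative.ofAdd.injective
  mem x := List.mem_map.2 ⟨x.toAdd, a.mem _, rfl⟩

def Enum.semi {H V : Type} [Group H] [AddCommGroup V] {A : Act H V} (v : Enum V) (h : Enum H) :
    Enum (Semi A) where
  els := (v.els ×ˢ h.els).map fun p => ⟨p.1, p.2⟩
  nodup := (v.nodup.product h.nodup).map (fun p q e => Prod.ext (congrArg Semi.v e) (congrArg Semi.h e))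
  mem x := List.mem_map.2 ⟨(x.v, x.h), List.mem_product.2 ⟨v.mem _, h.mem _⟩, rfl⟩

def Enum.meta (a b r : ℕ) [NeZero a] [NeZero b] (hr : (r : ZMod a) ^ b = 1) :
    Enum (Meta a b r hr) := Enum.semi (Enum.zmod a) (Enum.mult (Enum.zmod b))

/-- The divisors of `84`. -/
def divs84 : List ℕ := [1, 2, 3, 4, 6, 7, 12, 14, 21, 28, 42, 84]

/-- The number of solutions of `x ^ n = 1`. -/
noncomputable def rootCount (A : Type) [Group A] (n : ℕ) : ℕ := Nat.card {a : A // a ^ n = 1}

/-- Searches for the first `j ≥ k` with `x ^ j = 1`, given `y = x ^ k`. -/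
def orderSearch {A : Type} [Monoid A] [DecidableEq A] (x : A) : ℕ → ℕ → A → ℕ
  | 0, _, _ => 0
  | fuel + 1, k, y => if y = 1 then k else orderSearch x fuel (k + 1) (y * x)

theorem orderOf_eq_of_orderSearch {A : Type} [Monoid A] [DecidableEq A] (x : A) :
    ∀ (fuel k : ℕ) (y : A) (r : ℕ), y = x ^ k → 0 < k → (∀ i, 0 < i → i < k → x ^ i ≠ 1) →
      orderSearch x fuel k y = r → 0 < r → orderOf x = r := by
  intro fuel
  induction fuel with
  | zero => intro k y r _ _ _ h hr; simp only [orderSearch] at h; omega
  | succ fuel ih =>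
    intro k y r hy hk hlow h hr
    simp only [orderSearch] at h
    split_ifs at h with h1
    · subst h
      exact (orderOf_eq_iff hk).2 ⟨hy ▸ h1, fun i hi hi0 => hlow i hi0 hi⟩
    · refine ih (k + 1) (y * x) r (by rw [hy, pow_succ]) (by omega) (fun i hi hik => ?_) h hr
      rcases Nat.lt_or_ge i k with hlt | hge
      · exact hlow i hi hlt
      · obtain rfl : i = k := by omega
        exact hy ▸ h1

/-- Adds to `acc` the indicator of the multiples of `o` among the divisors of `84`. -/
def tallyStep (acc : List ℕ) (o : ℕ) : List ℕ :=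
  List.zipWith (fun c n => if n % o = 0 then c + 1 else c) acc divs84

/-- The root counts, read off from the element orders in one pass. -/
def tally (os : List ℕ) : List ℕ := os.foldr (fun o acc => tallyStep acc o) (divs84.map fun _ => 0)

theorem tally_eq (os : List ℕ) :
    tally os = divs84.map fun n => os.countP fun o => decide (n % o = 0) := by
  induction os with
  | nil => simp [tally]
  | cons o os ih =>
    rw [tally, List.foldr_cons]
    change tallyStep (tally os) o = _
    rw [ih, tallyStep, List.zipWith_map_left, List.zipWith_self]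
    refine List.map_congr_left fun n _ => ?_
    rw [List.countP_cons]
    by_cases h : n % o = 0 <;> simp [h]

/-- The check run by the kernel: all orders found, and their tally. -/
def orderCheck {A : Type} [Monoid A] [DecidableEq A] (els : List A) (L : List ℕ) : Bool :=
  let os := els.map fun x => orderSearch x 84 1 x
  os.all (fun o => 84 % o == 0 && o != 0) && tally os == L

/-- `A` has exponent dividing `84` and the root counts `L`. -/
structure Spec (A : Type) [Group A] (L : List ℕ) : Prop where
  exp : ∀ x : A, x ^ 84 = 1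
  counts : divs84.map (rootCount A) = L

theorem Spec.of_orderCheck {A : Type} [Group A] [DecidableEq A] (E : Enum A) {L : List ℕ}
    (h : orderCheck E.els L = true) : Spec A L := by
  obtain ⟨els, hnd, hall⟩ := E
  simp only [orderCheck, Bool.and_eq_true, List.all_eq_true, List.mem_map, forall_exists_index,
    and_imp, beq_iff_eq, bne_iff_ne] at h
  obtain ⟨hos, hL⟩ := h
  have hord : ∀ x : A, orderOf x = orderSearch x 84 1 x := fun x =>
    orderOf_eq_of_orderSearch x 84 1 x _ (pow_one x).symm one_pos
      (fun i h1 h2 => by omega) rfl (Nat.pos_of_ne_zero (hos _ x (hall x) rfl).2)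
  have hdvd : ∀ x : A, orderOf x ∣ 84 := fun x =>
    hord x ▸ Nat.dvd_of_mod_eq_zero (hos _ x (hall x) rfl).1
  refine ⟨fun x => orderOf_dvd_iff_pow_eq_one.1 (hdvd x), ?_⟩
  rw [← hL, tally_eq]
  refine List.map_congr_left fun n _ => ?_
  classical
  haveI : Fintype A := ⟨els.toFinset, fun x => List.mem_toFinset.2 (hall x)⟩
  rw [rootCount, Nat.card_eq_fintype_card, Fintype.card_subtype, List.countP_map,
    List.countP_eq_length_filter, ← List.toFinset_card_of_nodup (hnd.filter _)]
  congr 1
  ext x
  simp only [Finset.mem_filter, Finset.mem_univ, true_and, List.mem_toFinset, List.mem_filter,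
    Function.comp_apply, decide_eq_true_eq, hall x]
  rw [← orderOf_dvd_iff_pow_eq_one, ← hord x, Nat.dvd_iff_mod_eq_zero]

theorem rootCount_prod (A B : Type) [Group A] [Group B] (n : ℕ) :
    rootCount (A × B) n = rootCount A n * rootCount B n := by
  rw [rootCount, rootCount, rootCount, ← Nat.card_prod]
  exact Nat.card_congr
    { toFun := fun x => (⟨x.1.1, congrArg Prod.fst x.2⟩, ⟨x.1.2, congrArg Prod.snd x.2⟩)
      invFun := fun y => ⟨(y.1.1, y.2.1), Prod.ext y.1.2 y.2.2⟩
      left_inv := fun _ => rfl
      right_inv := fun _ => rfl }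

theorem rootCount_pi (A : Type) [Group A] (k n : ℕ) :
    rootCount (Fin k → A) n = rootCount A n ^ k := by
  have h := Nat.card_congr (α := {x : Fin k → A // x ^ n = 1}) (β := Fin k → {a : A // a ^ n = 1})
    { toFun := fun x i => ⟨x.1 i, congrFun x.2 i⟩
      invFun := fun y => ⟨fun i => (y i).1, funext fun i => (y i).2⟩
      left_inv := fun _ => rfl
      right_inv := fun _ => rfl }
  rw [rootCount, h, Nat.card_fun]
  simp [rootCount]

theorem Spec.prod {A B : Type} [Group A] [Group B] {L M : List ℕ} (hA : Spec A L) (hB : Spec B M) :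
    Spec (A × B) (List.zipWith (· * ·) L M) := by
  refine ⟨fun x => Prod.ext (hA.exp x.1) (hB.exp x.2), ?_⟩
  rw [← hA.counts, ← hB.counts, List.zipWith_map, List.zipWith_self]
  exact List.map_congr_left fun n _ => rootCount_prod A B n

theorem Spec.pi {A : Type} [Group A] {L : List ℕ} (hA : Spec A L) (k : ℕ) :
    Spec (Fin k → A) (L.map (· ^ k)) := by
  refine ⟨fun x => funext fun i => hA.exp (x i), ?_⟩
  rw [← hA.counts, List.map_map]
  exact List.map_congr_left fun n _ => rootCount_pi A k n

theorem Spec.rootCount_eq {A B : Type} [Group A] [Group B] {L : List ℕ} (hA : Spec A L)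
    (hB : Spec B L) (n : ℕ) : rootCount A n = rootCount B n := by
  have red : ∀ (C : Type) [Group C], (∀ x : C, x ^ 84 = 1) →
      rootCount C n = rootCount C (Nat.gcd n 84) := fun C _ hC =>
    Nat.card_congr (Equiv.subtypeEquivRight fun x => by
      rw [pow_gcd_eq_one]
      exact ⟨fun h => ⟨h, hC x⟩, fun h => h.1⟩)
  have hmem : ∀ d < 85, d ∣ 84 → d ∈ divs84 := by decide +kernel
  have hd := hmem (Nat.gcd n 84)
    (by have := Nat.gcd_le_right (n := 84) n (by norm_num); omega) (Nat.gcd_dvd_right n 84)
  rw [red A hA.exp, red B hB.exp]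
  exact List.map_inj_left.1 (hA.counts.trans hB.counts.symm) _ hd

theorem isSolvable_pi {A : Type} [Group A] [hA : Group.IsSolvable A] (ι : Type) :
    Group.IsSolvable (ι → A) := by
  obtain ⟨n, hn⟩ := (Group.isSolvable_def A).1 hA
  refine (Group.isSolvable_def _).2 ⟨n, eq_bot_iff.2 fun x hx => ?_⟩
  refine Subgroup.mem_bot.2 (funext fun i => ?_)
  have := map_derivedSeries_le_derivedSeries (Pi.evalMonoidHom (fun _ : ι => A) i) n
    (Subgroup.mem_map_of_mem _ hx)
  rw [hn] at this
  exact Subgroup.mem_bot.1 this

end CfsgLib.OrderType
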