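import Cfsg.Agent.OrderType.Basic

/-!
# Small solvable factors (part 1) of two groups with the same order type
-/

set_option autoImplicit false

namespace CfsgLib.OrderType

/-- A group of order 504. -/
def actK00 : Act (Meta 7 2 6 (by decide +kernel)) (ZMod 2 × ZMod 2 × ZMod 3 × ZMod 3) := pairAct 7 2 6 (by decide +kernel)
  (fun v => (v.1, v.2.1, v.2.2.1, v.2.2.2))
  (fun v => (v.1, v.1 + v.2.1, 2 * v.2.2.1, 2 * v.2.2.2))
  (by decide +kernel) (by decide +kernel) (by decide +kernel) (by decide +kernel) (by decide +kernel)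

abbrev K00 : Type := Semi actK00

theorem specK00 : Spec K00 [1, 130, 9, 256, 162, 7, 288, 154, 63, 280, 378, 504] :=
  Spec.of_orderCheck (Enum.semi (Enum.prod (Enum.zmod 2) (Enum.prod (Enum.zmod 2) (Enum.prod (Enum.zmod 3) (Enum.zmod 3)))) (Enum.meta 7 2 6 _)) (by decide +kernel)

/-- A group of order 294. -/
def actK03 : Act (Meta 3 2 2 (by decide +kernel)) (ZMod 7 × ZMod 7) := pairAct 3 2 2 (by decide +kernel)
  (fun v => (4 * v.1 + 6 * v.2, 2 * v.2))
  (fun v => (5 * v.1 + 6 * v.2, 3 * v.1 + 2 * v.2))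
  (by decide +kernel) (by decide +kernel) (by decide +kernel) (by decide +kernel) (by decide +kernel)

abbrev K03 : Type := Semi actK03

theorem specK03 : Spec K03 [1, 22, 99, 22, 120, 49, 120, 196, 147, 196, 294, 294] :=
  Spec.of_orderCheck (Enum.semi (Enum.prod (Enum.zmod 7) (Enum.zmod 7)) (Enum.meta 3 2 2 _)) (by decide +kernel)

/-- A group of order 224. -/
def actK05 : Act (Meta 7 2 6 (by decide +kernel)) (ZMod 2 × ZMod 2 × ZMod 2 × ZMod 2) := pairAct 7 2 6 (by decide +kernel)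
  (fun v => (v.1, v.2.1, v.2.2.1, v.2.2.2))
  (fun v => (v.1 + v.2.1, v.2.1, v.2.2.1, v.2.2.1 + v.2.2.2))
  (by decide +kernel) (by decide +kernel) (by decide +kernel) (by decide +kernel) (by decide +kernel)

abbrev K05 : Type := Semi actK05

theorem specK05 : Spec K05 [1, 44, 1, 128, 44, 7, 128, 140, 7, 224, 140, 224] :=
  Spec.of_orderCheck (Enum.semi (Enum.prod (Enum.zmod 2) (Enum.prod (Enum.zmod 2) (Enum.prod (Enum.zmod 2) (Enum.zmod 2)))) (Enum.meta 7 2 6 _)) (by decide +kernel)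

/-- A group of order 168. -/
def actK07 : Act (Meta 7 3 2 (by decide +kernel)) (ZMod 2 × ZMod 2 × ZMod 2) := pairAct 7 3 2 (by decide +kernel)
  (fun v => (v.2.1, v.1 + v.2.2, v.2.1 + v.2.2))
  (fun v => (v.2.1, v.1 + v.2.1, v.1 + v.2.1 + v.2.2))
  (by decide +kernel) (by decide +kernel) (by decide +kernel) (by decide +kernel) (by decide +kernel)

abbrev K07 : Type := Semi actK07

theorem specK07 : Spec K07 [1, 8, 57, 8, 120, 49, 120, 56, 105, 56, 168, 168] :=
  Spec.of_orderCheck (Enum.semi (Enum.prod (Enum.zmod 2) (Enum.prod (Enum.zmod 2) (Enum.zmod 2))) (Enum.meta 7 3 2 _)) (by decide +kernel)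

/-- A group of order 126. -/
def actK09 : Act (Meta 21 2 20 (by decide +kernel)) (ZMod 3) := pairAct 21 2 20 (by decide +kernel)
  (fun v => v)
  (fun v => 2 * v)
  (by decide +kernel) (by decide +kernel) (by decide +kernel) (by decide +kernel) (by decide +kernel)

abbrev K09 : Type := Semi actK09

theorem specK09 : Spec K09 [1, 64, 9, 64, 72, 7, 72, 70, 63, 70, 126, 126] :=
  Spec.of_orderCheck (Enum.semi (Enum.zmod 3) (Enum.meta 21 2 20 _)) (by decide +kernel)

/-- A group of order 84. -/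
abbrev K11 : Type := Meta 7 12 3 (by decide +kernel)

theorem specK11 : Spec K11 [1, 2, 15, 16, 30, 7, 72, 14, 21, 28, 42, 84] :=
  Spec.of_orderCheck (Enum.meta 7 12 3 _) (by decide +kernel)

/-- A group of order 72. -/
def actK13 : Act (Meta 4 2 3 (by decide +kernel)) (ZMod 3 × ZMod 3) := pairAct 4 2 3 (by decide +kernel)
  (fun v => (2 * v.1 + v.2, v.1 + v.2))
  (fun v => (2 * v.1 + v.2, v.2))
  (by decide +kernel) (by decide +kernel) (by decide +kernel) (by decide +kernel) (by decide +kernel)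

abbrev K13 : Type := Semi actK13

theorem specK13 : Spec K13 [1, 22, 9, 40, 54, 1, 72, 22, 9, 40, 54, 72] :=
  Spec.of_orderCheck (Enum.semi (Enum.prod (Enum.zmod 3) (Enum.zmod 3)) (Enum.meta 4 2 3 _)) (by decide +kernel)

/-- A group of order 42. -/
abbrev K15 : Type := Meta 21 2 20 (by decide +kernel)

theorem specK15 : Spec K15 [1, 22, 3, 22, 24, 7, 24, 28, 21, 28, 42, 42] :=
  Spec.of_orderCheck (Enum.meta 21 2 20 _) (by decide +kernel)

/-- A group of order 36. -/
def actK17 : Act (Multiplicative (ZMod 4)) (ZMod 3 × ZMod 3) := cyclicAct 4 (fun v => (2 * v.1, 2 * v.2))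
  (by decide +kernel) (by decide +kernel)

abbrev K17 : Type := Semi actK17

theorem specK17 : Spec K17 [1, 2, 9, 20, 18, 1, 36, 2, 9, 20, 18, 36] :=
  Spec.of_orderCheck (Enum.semi (Enum.prod (Enum.zmod 3) (Enum.zmod 3)) (Enum.mult (Enum.zmod 4))) (by decide +kernel)

/-- A group of order 28. -/
abbrev K19 : Type := Meta 7 4 6 (by decide +kernel)

theorem specK19 : Spec K19 [1, 2, 1, 16, 2, 7, 16, 14, 7, 28, 14, 28] :=
  Spec.of_orderCheck (Enum.meta 7 4 6 _) (by decide +kernel)

/-- A group of order 21. -/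
abbrev K21 : Type := Meta 7 3 2 (by decide +kernel)

theorem specK21 : Spec K21 [1, 1, 15, 1, 15, 7, 15, 7, 21, 7, 21, 21] :=
  Spec.of_orderCheck (Enum.meta 7 3 2 _) (by decide +kernel)

/-- A group of order 14. -/
abbrev K23 : Type := Meta 7 2 6 (by decide +kernel)

theorem specK23 : Spec K23 [1, 8, 1, 8, 8, 7, 8, 14, 7, 14, 14, 14] :=
  Spec.of_orderCheck (Enum.meta 7 2 6 _) (by decide +kernel)

/-- A group of order 8. -/
abbrev K25 : Type := Meta 4 2 3 (by decide +kernel)

theorem specK25 : Spec K25 [1, 6, 1, 8, 6, 1, 8, 6, 1, 8, 6, 8] :=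
  Spec.of_orderCheck (Enum.meta 4 2 3 _) (by decide +kernel)

/-- A group of order 6. -/
abbrev K27 : Type := Meta 3 2 2 (by decide +kernel)

theorem specK27 : Spec K27 [1, 4, 3, 4, 6, 1, 6, 4, 3, 4, 6, 6] :=
  Spec.of_orderCheck (Enum.meta 3 2 2 _) (by decide +kernel)

/-- A group of order 2. -/
abbrev K29 : Type := Multiplicative (ZMod 2)

theorem specK29 : Spec K29 [1, 2, 1, 2, 2, 1, 2, 2, 1, 2, 2, 2] :=
  Spec.of_orderCheck (Enum.mult (Enum.zmod 2)) (by decide +kernel)

end CfsgLib.OrderType
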