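import Cfsg.Agent.OrderType.Basic

/-!
# Small solvable factors (part 2) of two groups with the same order type
-/

set_option autoImplicit false

namespace CfsgLib.OrderType

/-- A group of order 392. -/
def actK01 : Act (Meta 4 2 3 (by decide +kernel)) (ZMod 7 × ZMod 7) := pairAct 4 2 3 (by decide +kernel)
  (fun v => (v.1 + 2 * v.2, 6 * v.1 + 6 * v.2))
  (fun v => (v.1 + 2 * v.2, 6 * v.2))
  (by decide +kernel) (by decide +kernel) (by decide +kernel) (by decide +kernel) (by decide +kernel)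

abbrev K01 : Type := Semi actK01

theorem specK01 : Spec K01 [1, 78, 1, 176, 78, 49, 176, 294, 49, 392, 294, 392] :=
  Spec.of_orderCheck (Enum.semi (Enum.prod (Enum.zmod 7) (Enum.zmod 7)) (Enum.meta 4 2 3 _)) (by decide +kernel)

/-- A group of order 294. -/
def actK02 : Act (Multiplicative (ZMod 6)) (ZMod 7 × ZMod 7) := cyclicAct 6 (fun v => (6 * v.1 + v.2, 3 * v.2))
  (by decide +kernel) (by decide +kernel)

abbrev K02 : Type := Semi actK02

theorem specK02 : Spec K02 [1, 50, 15, 50, 162, 49, 162, 98, 147, 98, 294, 294] :=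
  Spec.of_orderCheck (Enum.semi (Enum.prod (Enum.zmod 7) (Enum.zmod 7)) (Enum.mult (Enum.zmod 6))) (by decide +kernel)

/-- A group of order 252. -/
def actK04 : Act (Meta 21 4 20 (by decide +kernel)) (ZMod 3) := pairAct 21 4 20 (by decide +kernel)
  (fun v => v)
  (fun v => 2 * v)
  (by decide +kernel) (by decide +kernel) (by decide +kernel) (by decide +kernel) (by decide +kernel)

abbrev K04 : Type := Semi actK04

theorem specK04 : Spec K04 [1, 2, 9, 128, 18, 7, 144, 14, 63, 140, 126, 252] :=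
  Spec.of_orderCheck (Enum.semi (Enum.zmod 3) (Enum.meta 21 4 20 _)) (by decide +kernel)

/-- A group of order 168. -/
def actK06 : Act (Meta 4 2 3 (by decide +kernel)) (ZMod 3 × ZMod 7) := pairAct 4 2 3 (by decide +kernel)
  (fun v => (2 * v.1, 6 * v.2))
  (fun v => (2 * v.1, v.2))
  (by decide +kernel) (by decide +kernel) (by decide +kernel) (by decide +kernel) (by decide +kernel)

abbrev K06 : Type := Semi actK06

theorem specK06 : Spec K06 [1, 22, 3, 64, 54, 7, 96, 70, 21, 112, 126, 168] :=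
  Spec.of_orderCheck (Enum.semi (Enum.prod (Enum.zmod 3) (Enum.zmod 7)) (Enum.meta 4 2 3 _)) (by decide +kernel)

/-- A group of order 147. -/
def actK08 : Act (Multiplicative (ZMod 3)) (ZMod 7 × ZMod 7) := cyclicAct 3 (fun v => (4 * v.1, 3 * v.1 + 2 * v.2))
  (by decide +kernel) (by decide +kernel)

abbrev K08 : Type := Semi actK08

theorem specK08 : Spec K08 [1, 1, 99, 1, 99, 49, 99, 49, 147, 49, 147, 147] :=
  Spec.of_orderCheck (Enum.semi (Enum.prod (Enum.zmod 7) (Enum.zmod 7)) (Enum.mult (Enum.zmod 3))) (by decide +kernel)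

/-- A group of order 98. -/
def actK10 : Act (Multiplicative (ZMod 2)) (ZMod 7 × ZMod 7) := cyclicAct 2 (fun v => (6 * v.1, 6 * v.2))
  (by decide +kernel) (by decide +kernel)

abbrev K10 : Type := Semi actK10

theorem specK10 : Spec K10 [1, 50, 1, 50, 50, 49, 50, 98, 49, 98, 98, 98] :=
  Spec.of_orderCheck (Enum.semi (Enum.prod (Enum.zmod 7) (Enum.zmod 7)) (Enum.mult (Enum.zmod 2))) (by decide +kernel)

/-- A group of order 84. -/
abbrev K12 : Type := Meta 21 4 20 (by decide +kernel)

theorem specK12 : Spec K12 [1, 2, 3, 44, 6, 7, 48, 14, 21, 56, 42, 84] :=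
  Spec.of_orderCheck (Enum.meta 21 4 20 _) (by decide +kernel)

/-- A group of order 56. -/
abbrev K14 : Type := Meta 28 2 27 (by decide +kernel)

theorem specK14 : Spec K14 [1, 30, 1, 32, 30, 7, 32, 42, 7, 56, 42, 56] :=
  Spec.of_orderCheck (Enum.meta 28 2 27 _) (by decide +kernel)

/-- A group of order 42. -/
abbrev K16 : Type := Meta 7 6 5 (by decide +kernel)

theorem specK16 : Spec K16 [1, 8, 15, 8, 36, 7, 36, 14, 21, 14, 42, 42] :=
  Spec.of_orderCheck (Enum.meta 7 6 5 _) (by decide +kernel)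

/-- A group of order 32. -/
def actK18 : Act (Meta 2 2 1 (by decide +kernel)) (ZMod 2 × ZMod 2 × ZMod 2) := pairAct 2 2 1 (by decide +kernel)
  (fun v => (v.2.2, v.1 + v.2.1 + v.2.2, v.1))
  (fun v => (v.2.2, v.2.1, v.1))
  (by decide +kernel) (by decide +kernel) (by decide +kernel) (by decide +kernel) (by decide +kernel)

abbrev K18 : Type := Semi actK18

theorem specK18 : Spec K18 [1, 20, 1, 32, 20, 1, 32, 20, 1, 32, 20, 32] :=
  Spec.of_orderCheck (Enum.semi (Enum.prod (Enum.zmod 2) (Enum.prod (Enum.zmod 2) (Enum.zmod 2))) (Enum.meta 2 2 1 _)) (by decide +kernel)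

/-- A group of order 24. -/
def actK20 : Act (Meta 4 2 3 (by decide +kernel)) (ZMod 3) := pairAct 4 2 3 (by decide +kernel)
  (fun v => 2 * v)
  (fun v => 2 * v)
  (by decide +kernel) (by decide +kernel) (by decide +kernel) (by decide +kernel) (by decide +kernel)

abbrev K20 : Type := Semi actK20

theorem specK20 : Spec K20 [1, 10, 3, 16, 18, 1, 24, 10, 3, 16, 18, 24] :=
  Spec.of_orderCheck (Enum.semi (Enum.zmod 3) (Enum.meta 4 2 3 _)) (by decide +kernel)

/-- A group of order 18. -/
def actK22 : Act (Multiplicative (ZMod 2)) (ZMod 3 × ZMod 3) := cyclicAct 2 (fun v => (2 * v.1, 2 * v.2))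
  (by decide +kernel) (by decide +kernel)

abbrev K22 : Type := Semi actK22

theorem specK22 : Spec K22 [1, 10, 9, 10, 18, 1, 18, 10, 9, 10, 18, 18] :=
  Spec.of_orderCheck (Enum.semi (Enum.prod (Enum.zmod 3) (Enum.zmod 3)) (Enum.mult (Enum.zmod 2))) (by decide +kernel)

/-- A group of order 12. -/
abbrev K24 : Type := Meta 3 4 2 (by decide +kernel)

theorem specK24 : Spec K24 [1, 2, 3, 8, 6, 1, 12, 2, 3, 8, 6, 12] :=
  Spec.of_orderCheck (Enum.meta 3 4 2 _) (by decide +kernel)

/-- A group of order 7. -/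
abbrev K26 : Type := Multiplicative (ZMod 7)

theorem specK26 : Spec K26 [1, 1, 1, 1, 1, 7, 1, 7, 7, 7, 7, 7] :=
  Spec.of_orderCheck (Enum.mult (Enum.zmod 7)) (by decide +kernel)

/-- A group of order 4. -/
abbrev K28 : Type := Multiplicative (ZMod 4)

theorem specK28 : Spec K28 [1, 2, 1, 4, 2, 1, 4, 2, 1, 4, 2, 4] :=
  Spec.of_orderCheck (Enum.mult (Enum.zmod 4)) (by decide +kernel)

end CfsgLib.OrderType
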